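import Groth.Prelude.Def_W4c2arithlefschetzGraph
import Mathlib.LinearAlgebra.Matrix.Nondegenerate
import Mathlib.LinearAlgebra.Matrix.ToLinearEquiv
import Mathlib.LinearAlgebra.Matrix.DotProduct
import Mathlib.Algebra.Order.Ring.Rat
import Mathlib.Tactic

/-!
Intersection matrices of iterated point blow-ups.
-/

set_option autoImplicit false

open Matrix Finset

namespace Groth.Agent.BlowupGraph

open ArLef ArLef.BlowupGraph

variable {n : ℕ} (G : BlowupGraph n)

/-- strict transforms in the basis of total transforms -/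
def A : Matrix (Fin n) (Fin n) ℚ :=
  fun k p => (if k = p then 1 else 0) - (if p ∈ G.par k then 1 else 0)

/-- total transforms in the basis of strict transforms -/
def T : Matrix (Fin n) (Fin n) ℚ := fun m k => (G.tt k m : ℚ)

theorem tt_rec (k m : Fin n) :
    G.tt k m = if m < k then 0 else if m = k then 1 else ∑ p ∈ G.par m, G.tt k p := by
  rw [tt, ttN]
  simp only [Fin.val_fin_lt, Fin.val_inj]
  split_ifs with h1 h2
  · rfl
  · rfl
  · rw [Finset.sum_attach (G.parN m.1) (fun p => G.ttN k.1 p), parN, dif_pos m.2, Finset.sum_map]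
    rfl

theorem tt_eq_zero {k m : Fin n} (h : m < k) : G.tt k m = 0 := by rw [tt_rec, if_pos h]

theorem A_mul_T : A G * T G = 1 := by
  ext m k
  have hx : ∀ p, A G m p * T G p k =
      (if m = p then (G.tt k p : ℚ) else 0) - (if p ∈ G.par m then (G.tt k p : ℚ) else 0) := by
    intro p; simp only [A, T]; split_ifs <;> ring
  rw [Matrix.mul_apply, Finset.sum_congr rfl fun p _ => hx p, Finset.sum_sub_distrib,
    Finset.sum_ite_eq, if_pos (mem_univ _), Finset.sum_ite_mem, univ_inter, Matrix.one_apply]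
  rw [tt_rec G k m]
  split_ifs with h1 h2 h3
  · exact absurd h2 h1.ne
  · rw [Finset.sum_eq_zero fun p hp => by rw [tt_eq_zero G ((G.par_lt m p hp).trans h1)]; rfl]
    simp
  · rw [Finset.sum_eq_zero fun p hp => by rw [tt_eq_zero G (h3 ▸ G.par_lt m p hp)]; rfl]
    simp
  · push_cast; ring

theorem T_mul_A : T G * A G = 1 := mul_eq_one_comm.mp (A_mul_T G)

theorem par_eq_pair {m p q : Fin n} (hp : p ∈ G.par m) (hq : q ∈ G.par m) (h : p ≠ q) :
    G.par m = {p, q} := by
  refine (Finset.eq_of_subset_of_card_le ?_ ?_).symm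
  · intro x hx; rcases Finset.mem_insert.mp hx with rfl | hx
    · exact hp
    · rw [Finset.mem_singleton.mp hx]; exact hq
  · rw [Finset.card_pair h]; exact G.card_le_two m

theorem common_children {p q : Fin n} (h : p < q) :
    ((univ.filter fun k => p ∈ G.par k ∧ q ∈ G.par k).card : ℚ) =
      (if p ∈ G.par q then 1 else 0) - (if G.Adj p q then 1 else 0) := by
  have hqp : q ∉ G.par p := fun hc => (G.par_lt p q hc).asymm h
  by_cases hk : ∃ k, p ∈ G.par k ∧ q ∈ G.par k
  · obtain ⟨k, hkp, hkq⟩ := hk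
    have hone : (univ.filter fun k' => p ∈ G.par k' ∧ q ∈ G.par k') = {k} := by
      ext k'
      simp only [mem_filter, mem_univ, true_and, mem_singleton]
      refine ⟨fun hk' => ?_, fun e => e ▸ ⟨hkp, hkq⟩⟩
      rcases lt_trichotomy k' k with hlt | rfl | hlt
      · exact absurd (par_eq_pair G hk'.1 hk'.2 h.ne)
          ((G.meet_of_two k p q hkp hkq h).2 k' (G.par_lt k' q hk'.2) hlt)
      · rfl
      · exact absurd (par_eq_pair G hkp hkq h.ne)
          ((G.meet_of_two k' p q hk'.1 hk'.2 h).2 k (G.par_lt k q hkq) hlt)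
    have hadj : ¬ G.Adj p q := by
      rintro (⟨-, h2⟩ | ⟨h1, -⟩)
      · exact h2 k (G.par_lt k q hkq) (par_eq_pair G hkp hkq h.ne)
      · exact hqp h1
    rw [hone, if_pos (G.meet_of_two k p q hkp hkq h).1, if_neg hadj]
    simp
  · rw [Finset.filter_false_of_mem (fun k _ hk' => hk ⟨k, hk'⟩)]
    by_cases hpq : p ∈ G.par q
    · have hadj : G.Adj p q := Or.inl ⟨hpq, fun m _ he => hk ⟨m, by simp [he], by simp [he]⟩⟩
      rw [if_pos hpq, if_pos hadj]; simp
    · have hadj : ¬ G.Adj p q := by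
        rintro (⟨h1, -⟩ | ⟨h1, -⟩)
        · exact hpq h1
        · exact hqp h1
      rw [if_neg hpq, if_neg hadj]; simp

theorem gram (p q : Fin n) : ((A G)ᵀ * A G) p q =
    (if p = q then 1 else 0) - (if p ∈ G.par q then 1 else 0) - (if q ∈ G.par p then 1 else 0) +
      ((univ.filter fun k => p ∈ G.par k ∧ q ∈ G.par k).card : ℚ) := by
  have hx : ∀ k, (A G)ᵀ p k * A G k q =
      (if k = p then (if k = q then (1 : ℚ) else 0) else 0) -
      (if k = p then (if q ∈ G.par k then (1 : ℚ) else 0) else 0) -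
      (if k = q then (if p ∈ G.par k then (1 : ℚ) else 0) else 0) +
      (if p ∈ G.par k ∧ q ∈ G.par k then (1 : ℚ) else 0) := by
    intro k
    simp only [A, Matrix.transpose_apply, ite_and]
    split_ifs <;> norm_num
  rw [Matrix.mul_apply, Finset.sum_congr rfl fun k _ => hx k]
  simp only [Finset.sum_add_distrib, Finset.sum_sub_distrib, Finset.sum_ite_eq', mem_univ, if_true,
    Finset.sum_boole]
  ring

theorem adj_comm (p q : Fin n) : G.Adj p q ↔ G.Adj q p := Or.comm

theorem mat_eq : G.mat = -((A G)ᵀ * A G) := by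
  ext p q
  rw [Matrix.neg_apply, gram]
  rcases lt_trichotomy p q with h | rfl | h
  · rw [common_children G h, if_neg (fun hc => (G.par_lt p q hc).asymm h)]
    simp only [ArLef.BlowupGraph.mat, if_neg h.ne]
    ring
  · have : p ∉ G.par p := fun hc => (G.par_lt p p hc).ne rfl
    simp only [ArLef.BlowupGraph.mat, selfInt, if_neg this, if_true, and_self]
    push_cast; ring
  · rw [Finset.filter_congr (q := fun k => q ∈ G.par k ∧ p ∈ G.par k) (fun k _ => and_comm),
      common_children G h, if_neg (fun hc : p ∈ G.par q => (G.par_lt q p hc).asymm h)]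
    simp only [ArLef.BlowupGraph.mat, if_neg h.ne']
    by_cases hadj : G.Adj p q
    · rw [if_pos hadj, if_pos ((adj_comm G p q).mp hadj)]; ring
    · rw [if_neg hadj, if_neg (fun hc => hadj ((adj_comm G q p).mp hc))]; ring

theorem mult_eq : (fun i j => (G.mult i j : ℚ)) = T G * (T G)ᵀ := by
  funext i j
  rw [Matrix.mul_apply]
  simp [mult, T]

theorem mat_mul_mult : G.mat * (T G * (T G)ᵀ) = -1 := by
  rw [mat_eq, Matrix.neg_mul, Matrix.mul_assoc, ← Matrix.mul_assoc (A G), A_mul_T, Matrix.one_mul,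
    ← Matrix.transpose_mul, T_mul_A, Matrix.transpose_one]

theorem isUnit_det_sub (I : Finset (Fin n)) :
    IsUnit (G.mat.submatrix (fun x : I => x.1) (fun x : I => x.1)).det := by
  let B : Matrix (Fin n) I ℚ := (A G).submatrix id (fun x : I => x.1)
  have hB : G.mat.submatrix (fun x : I => x.1) (fun x : I => x.1) = -(Bᵀ * B) := by
    rw [mat_eq]; ext a b; simp [B, Matrix.mul_apply]
  rw [isUnit_iff_ne_zero, hB, Matrix.det_neg]
  refine mul_ne_zero (pow_ne_zero _ (by norm_num)) fun hdet => ?_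
  obtain ⟨v, hv, hBv⟩ := (Matrix.exists_mulVec_eq_zero_iff).mpr hdet
  have h1 : B *ᵥ v ⬝ᵥ B *ᵥ v = 0 := by
    rw [Matrix.dotProduct_mulVec, ← Matrix.mulVec_transpose, Matrix.mulVec_mulVec, hBv, zero_dotProduct]
  have h2 : B *ᵥ v = 0 := dotProduct_self_eq_zero.mp h1
  let w : Fin n → ℚ := fun i => if h : i ∈ I then v ⟨i, h⟩ else 0
  have h3 : A G *ᵥ w = 0 := by
    rw [← h2]
    funext k
    simp only [Matrix.mulVec, dotProduct, B, Matrix.submatrix_apply, id_eq]
    rw [← Finset.sum_subset (Finset.subset_univ I) (fun i _ hi => by simp [w, hi]), ← Finset.sum_coe_sort I]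
    exact Finset.sum_congr rfl fun a _ => by simp [w]
  have h4 : w = 0 := by
    rw [← Matrix.one_mulVec w, ← T_mul_A G, ← Matrix.mulVec_mulVec, h3, Matrix.mulVec_zero]
  exact hv (funext fun a => by
    have := congrFun h4 a.1
    simpa [w] using this)

theorem pairing_mul_mult (I : Finset (Fin n)) {c : Fin n} (_hc : c ∉ I) {c' : Fin n} (hc' : c' ∉ I) :
    ∑ j ∈ univ.filter (fun j => j ∉ I), G.pairing I c j * (G.mult j c' : ℚ) = -(if c = c' then 1 else 0) := by
  let Mi := (G.mat.submatrix (fun x : I => x.1) (fun x : I => x.1))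
  let N : Matrix (Fin n) (Fin n) ℚ := T G * (T G)ᵀ
  have hN : ∀ i j, (G.mult i j : ℚ) = N i j := fun i j => congrFun (congrFun (mult_eq G) i) j
  have hrow : ∀ x, ∑ j ∈ univ.filter (fun j => j ∉ I), G.mat x j * N j c' =
      -(if x = c' then 1 else 0) - ∑ b : I, G.mat x b.1 * N b.1 c' := by
    intro x
    have h := congrFun (congrFun (mat_mul_mult G) x) c'
    rw [Matrix.mul_apply, ← Finset.sum_filter_add_sum_filter_not univ (fun j => j ∉ I),
      Matrix.neg_apply, Matrix.one_apply] at h
    rw [← h]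
    simp only [not_not, filter_mem_eq_inter, univ_inter]
    rw [Finset.sum_coe_sort I (fun b => G.mat x b * N b c')]
    ring
  have hinv : ∀ a : I, ∑ b : I, Mi⁻¹ a b * (∑ j ∈ univ.filter (fun j => j ∉ I), G.mat b.1 j * N j c') =
      -N a.1 c' := by
    intro a
    have hb : ∀ b : I, ∑ j ∈ univ.filter (fun j => j ∉ I), G.mat b.1 j * N j c' =
        -(Mi *ᵥ fun d : I => N d.1 c') b := by
      intro b
      rw [hrow, if_neg (fun e : b.1 = c' => hc' (e ▸ b.2))]
      simp [Mi, Matrix.mulVec, dotProduct]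
    simp only [hb, mul_neg, Finset.sum_neg_distrib]
    congr 1
    show (Mi⁻¹ *ᵥ (Mi *ᵥ fun d : I => N d.1 c')) a = _
    rw [Matrix.mulVec_mulVec, Matrix.nonsing_inv_mul _ (isUnit_det_sub G I), Matrix.one_mulVec]
  simp only [pairing, hN, sub_mul, Finset.sum_sub_distrib, hrow c, Finset.sum_mul]
  rw [Finset.sum_comm]
  rw [show ∀ z, (-(if c = c' then (1 : ℚ) else 0) - (∑ b : I, G.mat c b.1 * N b.1 c') - z =
      -(if c = c' then (1 : ℚ) else 0)) ↔ z = -(∑ b : I, G.mat c b.1 * N b.1 c') from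
    fun z => ⟨fun h => by linarith, fun h => by linarith⟩]
  rw [← Finset.sum_neg_distrib]
  refine Finset.sum_congr rfl fun a _ => ?_
  rw [Finset.sum_comm, ← mul_neg, ← hinv a, Finset.mul_sum]
  refine Finset.sum_congr rfl fun b _ => ?_
  rw [Finset.mul_sum, Finset.mul_sum]
  exact Finset.sum_congr rfl fun j _ => by ring

theorem lNum_eq (I : Finset (Fin n)) (σ : Equiv.Perm (Fin n)) (hσI : ∀ i, σ i ∈ I ↔ i ∈ I) :
    G.lNum I σ = ArLef.BlowupGraph.rNum I σ := by
  have hsymm : ∀ i j, G.mult i j = G.mult j i := fun i j => by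
    simp only [mult]; exact Finset.sum_congr rfl fun k _ => mul_comm _ _
  unfold lNum rNum
  calc ∑ i ∈ univ.filter (fun i => i ∉ I), ∑ j ∈ univ.filter (fun j => j ∉ I),
        (G.mult i j : ℚ) * G.pairing I (σ i) j
      = ∑ i ∈ univ.filter (fun i => i ∉ I), -(if σ i = i then (1 : ℚ) else 0) := by
        refine Finset.sum_congr rfl fun i hi => ?_
        have hi' : i ∉ I := (mem_filter.mp hi).2
        rw [← pairing_mul_mult G I (fun h => hi' ((hσI i).mp h)) hi']
        exact Finset.sum_congr rfl fun j _ => by rw [hsymm i j, mul_comm]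
    _ = -((univ.filter fun x => x ∉ I ∧ σ x = x).card : ℚ) := by
        rw [Finset.sum_neg_distrib, Finset.sum_boole, Finset.filter_filter]

end Groth.Agent.BlowupGraph
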